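import Cfsg.Agent.H313.AltDeg.Low
import Cfsg.Agent.H704.PP

/-!
# The small degrees of the alternating groups (helper313)

* `AltDeg n d` : `d` is a degree of a partition of `n`, or half the degree of a self-conjugate one;
* `alt_low` : for `13 ≤ n`, `d` is `1`, `n - 1`, `n (n - 3) / 2`, `(n - 1) (n - 2) / 2`, or `6 d ≥ n (n - 1) (n - 5)`;
* `alt_low_sq` : for `11 ≤ n`, `d` is `1`, `n - 1`, `n (n - 3) / 2`, `(n - 1) (n - 2) / 2`, or `d > (n - 1) ^ 2`;
* `alt_low4` : for `15 ≤ n` the next level;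
* `alt_pp` : for `10 ≤ n`, the prime powers.
-/

set_option autoImplicit false
set_option linter.unusedSectionVars false

namespace Cfsg.Agent.H313.AD

open Finset Cfsg.Agent.H704

/-- the degrees of the alternating group `A_n`, in terms of partitions -/
def AltDeg (n d : ℕ) : Prop :=
  ∃ l : List ℕ, IsPart l n ∧ ((transpose l ≠ l ∧ d * hookProd l = n.factorial) ∨
    (transpose l = l ∧ 2 * d * hookProd l = n.factorial))

theorem AltDeg.pos {n d : ℕ} (h : AltDeg n d) : 0 < d := by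
  obtain ⟨l, -, ⟨-, h⟩ | ⟨-, h⟩⟩ := h
  · exact pos_of_deg h
  · have := pos_of_deg h
    omega

theorem AltDeg.dvd {n d : ℕ} (h : AltDeg n d) : d ∣ n.factorial := by
  obtain ⟨l, -, ⟨-, h⟩ | ⟨-, h⟩⟩ := h
  · exact Dvd.intro _ h
  · exact ⟨2 * hookProd l, by rw [← h]; ring⟩

theorem AltDeg.isDeg {n d : ℕ} (h : AltDeg n d) : IsDeg n d ∨ IsDeg n (2 * d) := by
  obtain ⟨l, hl, ⟨-, h⟩ | ⟨-, h⟩⟩ := h
  · exact Or.inl ⟨l, hl, h⟩
  · exact Or.inr ⟨l, hl, h⟩

/-- a self-conjugate partition has a short first row -/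
theorem self_head {l : List ℕ} {n : ℕ} (hl : IsPart l n) (hs : transpose l = l) :
    colLen l 0 = l.headD 0 ∧ 2 * l.headD 0 ≤ n + 1 := by
  have h1 : l.headD 0 = colLen l 0 := by
    conv_lhs => rw [← hs]
    rw [headD_eq_getD, getD_transpose hl.sorted]
  refine ⟨h1.symm, ?_⟩
  have h2 := headD_add_colLen_le hl.pos 0
  rw [hl.sum] at h2
  omega

/-- the partitions with `λ₁ ≥ n - 2` or `λ'₁ ≥ n - 2` -/
theorem shallow {l : List ℕ} {n d : ℕ} (hn : 9 ≤ n) (hl : IsPart l n) (hd : d * hookProd l = n.factorial)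
    (h : n ≤ l.headD 0 + 2 ∨ n ≤ colLen l 0 + 2) :
    d = 1 ∨ d = n - 1 ∨ 2 * d = n * (n - 3) ∨ 2 * d = (n - 1) * (n - 2) := by
  have key : ∀ l : List ℕ, IsPart l n → d * hookProd l = n.factorial → n ≤ l.headD 0 + 2 →
      d = 1 ∨ d = n - 1 ∨ 2 * d = n * (n - 3) ∨ 2 * d = (n - 1) * (n - 2) := by
    intro l hl hd h
    by_cases h1 : n ≤ l.headD 0 + 1
    · rcases low_part hn hl hd (by omega) with h2 | h2
      · exact Or.inl h2
      · exact Or.inr (Or.inl h2)
    · exact Or.inr (Or.inr (depth_two (by omega) hl hd (by omega)))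
  rcases h with h | h
  · exact key l hl hd h
  · refine key (transpose l) (isPart_transpose hl) (by rw [hookProd_transpose hl, hd]) ?_
    rw [headD_eq_getD, getD_transpose hl.sorted]
    exact h

theorem shallow3 {l : List ℕ} {n d : ℕ} (hn : 9 ≤ n) (hl : IsPart l n) (hd : d * hookProd l = n.factorial)
    (h : n ≤ l.headD 0 + 3 ∨ n ≤ colLen l 0 + 3) :
    d = 1 ∨ d = n - 1 ∨ 2 * d = n * (n - 3) ∨ 2 * d = (n - 1) * (n - 2) ∨ 6 * d = n * (n - 1) * (n - 5) ∨
      3 * d = n * (n - 2) * (n - 4) ∨ 6 * d = (n - 1) * (n - 2) * (n - 3) := by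
  have key : ∀ l : List ℕ, IsPart l n → d * hookProd l = n.factorial → n ≤ l.headD 0 + 3 →
      d = 1 ∨ d = n - 1 ∨ 2 * d = n * (n - 3) ∨ 2 * d = (n - 1) * (n - 2) ∨ 6 * d = n * (n - 1) * (n - 5) ∨
      3 * d = n * (n - 2) * (n - 4) ∨ 6 * d = (n - 1) * (n - 2) * (n - 3) := by
    intro l hl hd h
    by_cases h1 : n ≤ l.headD 0 + 2
    · rcases shallow hn hl hd (Or.inl h1) with h2 | h2 | h2 | h2
      · exact Or.inl h2
      · exact Or.inr (Or.inl h2)
      · exact Or.inr (Or.inr (Or.inl h2))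
      · exact Or.inr (Or.inr (Or.inr (Or.inl h2)))
    · exact Or.inr (Or.inr (Or.inr (Or.inr (depth_three (by omega) hl hd (by omega)))))
  rcases h with h | h
  · exact key l hl hd h
  · refine key (transpose l) (isPart_transpose hl) (by rw [hookProd_transpose hl, hd]) ?_
    rw [headD_eq_getD, getD_transpose hl.sorted]
    exact h

theorem f3_le_f4 {n : ℕ} (hn : 13 ≤ n) : 8 * F3 n ≤ F4 n := by
  obtain ⟨m, rfl⟩ := Nat.exists_eq_add_of_le hn
  unfold F3 F4
  rw [show 13 + m - 1 = m + 12 by omega, show 13 + m - 5 = m + 8 by omega, show 13 + m - 2 = m + 11 by omega,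
    show 13 + m - 7 = m + 6 by omega]
  have h1 : 8 * (m + 8) ≤ (m + 11) * (m + 6) := by nlinarith
  calc 8 * ((13 + m) * (m + 12) * (m + 8)) = (13 + m) * (m + 12) * (8 * (m + 8)) := by ring
    _ ≤ (13 + m) * (m + 12) * ((m + 11) * (m + 6)) := Nat.mul_le_mul_left _ h1
    _ = (13 + m) * (m + 12) * (m + 11) * (m + 6) := by ring

/-- the check of the self-conjugate partitions -/
def selfChk (n c F : ℕ) (l : List ℕ) (H : ℕ) : Bool :=
  !(decide (transpose l = l)) || Nat.ble (F * 2 * H) (c * n.factorial)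

theorem self_base {n c F : ℕ} (h : go (selfChk n c F) (n + 1) n 1 [] 1 = true) {l : List ℕ} {d : ℕ} (hl : IsPart l n)
    (hs : transpose l = l) (hd : 2 * d * hookProd l = n.factorial) : F ≤ c * d := by
  have h1 := check_of_isPart h hl
  unfold selfChk at h1
  simp only [Bool.or_eq_true, Nat.ble_eq, Bool.not_eq_true', decide_eq_false_iff_not] at h1
  rcases h1 with h1 | h1
  · exact absurd hs h1
  · rw [← hd, show c * (2 * d * hookProd l) = c * d * 2 * hookProd l by ring] at h1
    have h2 := Nat.le_of_mul_le_mul_right h1 (hookProd_pos hl.sorted)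
    omega

theorem self13 : go (selfChk 13 6 (F3 13)) (13 + 1) 13 1 [] 1 = true := by decide +kernel
theorem self14 : go (selfChk 14 6 (F3 14)) (14 + 1) 14 1 [] 1 = true := by decide +kernel

/-- the self-conjugate partitions -/
theorem self_low {n d : ℕ} (hn : 13 ≤ n) {l : List ℕ} (hl : IsPart l n) (hs : transpose l = l)
    (hd : 2 * d * hookProd l = n.factorial) : F3 n ≤ 6 * d := by
  rcases Nat.lt_or_ge n 15 with h15 | h15
  · have h : n = 13 ∨ n = 14 := by omega
    rcases h with rfl | rfl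
    · exact self_base self13 hl hs hd
    · exact self_base self14 hl hs hd
  · obtain ⟨h1, h2⟩ := self_head hl hs
    have h3 := ld4 h15 l (2 * d) hl.sorted hl.sum hd (by omega) (by omega)
    have h4 := f3_le_f4 hn
    omega

/-- **The small degrees of `A_n`.** -/
theorem alt_low {n d : ℕ} (hn : 13 ≤ n) (h : AltDeg n d) :
    d = 1 ∨ d = n - 1 ∨ 2 * d = n * (n - 3) ∨ 2 * d = (n - 1) * (n - 2) ∨ n * (n - 1) * (n - 5) ≤ 6 * d := by
  obtain ⟨l, hl, ⟨-, hd⟩ | ⟨hs, hd⟩⟩ := h
  · by_cases hc : n ≤ l.headD 0 + 2 ∨ n ≤ colLen l 0 + 2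
    · rcases shallow (by omega) hl hd hc with h1 | h1 | h1 | h1
      · exact Or.inl h1
      · exact Or.inr (Or.inl h1)
      · exact Or.inr (Or.inr (Or.inl h1))
      · exact Or.inr (Or.inr (Or.inr (Or.inl h1)))
    · right; right; right; right
      exact ld3 hn l d hl.sorted hl.sum hd (by omega) (by omega)
  · right; right; right; right
    exact self_low hn hl hs hd

/-- the next level -/
theorem alt_low4 {n d : ℕ} (hn : 15 ≤ n) (h : AltDeg n d) :
    d = 1 ∨ d = n - 1 ∨ 2 * d = n * (n - 3) ∨ 2 * d = (n - 1) * (n - 2) ∨ 6 * d = n * (n - 1) * (n - 5) ∨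
      3 * d = n * (n - 2) * (n - 4) ∨ 6 * d = (n - 1) * (n - 2) * (n - 3) ∨
      n * (n - 1) * (n - 2) * (n - 7) ≤ 48 * d := by
  obtain ⟨l, hl, ⟨-, hd⟩ | ⟨hs, hd⟩⟩ := h
  · by_cases hc : n ≤ l.headD 0 + 3 ∨ n ≤ colLen l 0 + 3
    · rcases shallow3 (by omega) hl hd hc with h1 | h1 | h1 | h1 | h1 | h1 | h1
      · exact Or.inl h1
      · exact Or.inr (Or.inl h1)
      · exact Or.inr (Or.inr (Or.inl h1))
      · exact Or.inr (Or.inr (Or.inr (Or.inl h1)))
      · exact Or.inr (Or.inr (Or.inr (Or.inr (Or.inl h1))))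
      · exact Or.inr (Or.inr (Or.inr (Or.inr (Or.inr (Or.inl h1)))))
      · exact Or.inr (Or.inr (Or.inr (Or.inr (Or.inr (Or.inr (Or.inl h1))))))
    · right; right; right; right; right; right; right
      have := ld4 hn l d hl.sorted hl.sum hd (by omega) (by omega)
      unfold F4 at this
      omega
  · right; right; right; right; right; right; right
    obtain ⟨h1, h2⟩ := self_head hl hs
    have h3 := ld4 hn l (2 * d) hl.sorted hl.sum hd (by omega) (by omega)
    unfold F4 at h3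
    omega

/-! ### `n = 11` and `n = 12` -/

/-- a decidable form of `AltDeg` -/
def altChk (chk : ℕ → Bool) (n : ℕ) (l : List ℕ) (H : ℕ) : Bool :=
  (decide (transpose l = l) || chk (Nat.div n.factorial H)) &&
    (!(decide (transpose l = l)) || chk (Nat.div n.factorial (2 * H)))

theorem of_altChk {chk : ℕ → Bool} {n : ℕ} (h : go (altChk chk n) (n + 1) n 1 [] 1 = true) {d : ℕ}
    (hd : AltDeg n d) : chk d = true := by
  obtain ⟨l, hl, hd⟩ := hd
  have h1 := check_of_isPart h hl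
  have hp := hookProd_pos hl.sorted
  unfold altChk at h1
  rw [Bool.and_eq_true, Bool.or_eq_true, Bool.or_eq_true, decide_eq_true_eq] at h1
  rcases hd with ⟨hs, hd⟩ | ⟨hs, hd⟩
  · have h2 : Nat.div n.factorial (hookProd l) = d := by
      rw [← hd]
      exact Nat.mul_div_cancel d hp
    rw [← h2]
    exact h1.1.resolve_left hs
  · rcases h1.2 with h3 | h3
    · rw [decide_eq_true hs] at h3
      exact absurd h3 (by decide)
    · have h2 : Nat.div n.factorial (2 * hookProd l) = d := by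
        rw [← hd, show 2 * d * hookProd l = d * (2 * hookProd l) by ring]
        exact Nat.mul_div_cancel d (by omega)
      rw [← h2]
      exact h3

theorem alt_11 {d : ℕ} (h : AltDeg 11 d) : d = 1 ∨ d = 10 ∨ d = 44 ∨ d = 45 ∨ 110 ≤ d := by
  have := of_altChk (n := 11) (chk := fun d => decide (d = 1) || decide (d = 10) || decide (d = 44) || decide (d = 45) ||
    decide (110 ≤ d)) (by decide +kernel) h
  simp only [Bool.or_eq_true, decide_eq_true_eq] at this
  tauto

theorem alt_12 {d : ℕ} (h : AltDeg 12 d) : d = 1 ∨ d = 11 ∨ d = 54 ∨ d = 55 ∨ 132 ≤ d := by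
  have := of_altChk (n := 12) (chk := fun d => decide (d = 1) || decide (d = 11) || decide (d = 54) || decide (d = 55) ||
    decide (132 ≤ d)) (by decide +kernel) h
  simp only [Bool.or_eq_true, decide_eq_true_eq] at this
  tauto

/-- **The degrees of `A_n` up to `(n - 1) ^ 2`.** -/
theorem alt_low_sq {n d : ℕ} (hn : 11 ≤ n) (h : AltDeg n d) :
    d = 1 ∨ d = n - 1 ∨ 2 * d = n * (n - 3) ∨ 2 * d = (n - 1) * (n - 2) ∨ (n - 1) ^ 2 < d := by
  rcases Nat.lt_or_ge n 13 with h13 | h13
  · have h' : n = 11 ∨ n = 12 := by omega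
    rcases h' with rfl | rfl
    · rcases alt_11 h with h1 | h1 | h1 | h1 | h1 <;> omega
    · rcases alt_12 h with h1 | h1 | h1 | h1 | h1 <;> omega
  · rcases alt_low h13 h with h1 | h1 | h1 | h1 | h1
    · exact Or.inl h1
    · exact Or.inr (Or.inl h1)
    · exact Or.inr (Or.inr (Or.inl h1))
    · exact Or.inr (Or.inr (Or.inr (Or.inl h1)))
    · right; right; right; right
      obtain ⟨m, rfl⟩ := Nat.exists_eq_add_of_le h13
      rw [show 13 + m - 1 = m + 12 by omega, show 13 + m - 5 = m + 8 by omega] at h1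
      rw [show 13 + m - 1 = m + 12 by omega]
      have h2 : 6 * (m + 12) ^ 2 < (13 + m) * (m + 12) * (m + 8) := by
        have h3 : 6 * (m + 12) < (13 + m) * (m + 8) := by nlinarith
        calc 6 * (m + 12) ^ 2 = (m + 12) * (6 * (m + 12)) := by ring
          _ < (m + 12) * ((13 + m) * (m + 8)) := Nat.mul_lt_mul_of_pos_left h3 (by omega)
          _ = (13 + m) * (m + 12) * (m + 8) := by ring
      omega

/-- a degree of `A_n` is `1` or at least `n - 1` -/
theorem alt_ge {n d : ℕ} (hn : 11 ≤ n) (h : AltDeg n d) (h1 : d ≠ 1) : n - 1 ≤ d := by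
  rcases alt_low_sq hn h with h2 | h2 | h2 | h2 | h2
  · exact absurd h2 h1
  · omega
  · obtain ⟨m, rfl⟩ := Nat.exists_eq_add_of_le hn
    rw [show 11 + m - 3 = m + 8 by omega] at h2
    rw [show 11 + m - 1 = m + 10 by omega]
    nlinarith
  · obtain ⟨m, rfl⟩ := Nat.exists_eq_add_of_le hn
    rw [show 11 + m - 1 = m + 10 by omega, show 11 + m - 2 = m + 9 by omega] at h2
    rw [show 11 + m - 1 = m + 10 by omega]
    nlinarith
  · nlinarith [Nat.zero_le (n - 1)]

/-- **The prime powers.** -/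
theorem alt_pp {n d p e : ℕ} (hn : 11 ≤ n) (h : AltDeg n d) (hp : p.Prime) (he : 0 < e) (hd : d = p ^ e) :
    d = n - 1 := by
  have hd1 : d ≠ 1 := by
    rw [hd]
    exact (Nat.one_lt_pow he.ne' hp.one_lt).ne'
  have hge := alt_ge hn h hd1
  rcases h.isDeg with h1 | h1
  · rcases pp_theorem (by omega) h1 hp he (Or.inl hd) with h2 | ⟨h2, h3⟩
    · exact h2
    · exfalso
      rw [h3] at hd
      have h4 : 2 ∣ p ^ e := by rw [← hd]; norm_num
      have h5 : 3 ∣ p ^ e := by rw [← hd]; norm_num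
      have e2 := (Nat.prime_dvd_prime_iff_eq Nat.prime_two hp).1 (Nat.prime_two.dvd_of_dvd_pow h4)
      have e3 := (Nat.prime_dvd_prime_iff_eq Nat.prime_three hp).1 (Nat.prime_three.dvd_of_dvd_pow h5)
      omega
  · rcases pp_theorem (by omega) h1 hp he (Or.inr (by rw [hd])) with h2 | ⟨h2, h3⟩
    · omega
    · have h4 : d = 27 := by omega
      subst h2 h4
      rcases alt_12 h with h5 | h5 | h5 | h5 | h5 <;> omega

end Cfsg.Agent.H313.AD
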