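import Cfsg.Agent.H704.LowDegree

/-!
# The small degrees of the symmetric groups, next levels (helper313)

* `head_bound` : a partition `λ` of `n` with `λ₁ = n - k` has degree at least `C(n, k) - C(n, k - 1)`;
* `ldk_step` : the induction step for the partitions with `λ₁, λ'₁ ≤ n - k`;
* `ld3`, `ld4`, `ld5` : the bounds for `k = 3, 4, 5`;
* `depth_two`, `depth_three` : the degrees of the partitions with `λ₁ = n - 2`, `λ₁ = n - 3`.
-/

set_option autoImplicit false
set_option linter.unusedSectionVars false

namespace Cfsg.Agent.H313.AD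

open Finset Cfsg.Agent.H704

/-- `C(n, k - 1)`, and `0` for `k = 0` -/
def cm (n : ℕ) : ℕ → ℕ
  | 0 => 0
  | k + 1 => n.choose k

theorem pascal (n k : ℕ) : (n + 1).choose k = n.choose k + cm n k := by
  cases k with
  | zero => simp [cm]
  | succ k =>
    rw [Nat.choose_succ_succ, cm, add_comm]

/-- **Exact depth.** -/
theorem head_bound : ∀ (k a : ℕ) (l : List ℕ) (n d : ℕ), k ≤ a + 1 → Dec l → l.headD 0 = a → n = a + k → l.sum = n →
    d * hookProd l = n.factorial → n.choose k ≤ d + cm n k := by
  intro k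
  induction k with
  | zero =>
    intro a l n d _ _ _ _ _ hd
    have := pos_of_deg hd
    rw [Nat.choose_zero_right]
    omega
  | succ k ihk =>
    intro a
    induction a with
    | zero =>
      intro l n d hka _ _ hn _ _
      have hk0 : k = 0 := by omega
      subst hk0
      have hn1 : n = 1 := by omega
      subst hn1
      simp [cm]
    | succ a iha =>
      intro l n d hka hl hh hn hs hd
      rcases Nat.lt_or_ge k (a + 2) with hk | hk
      swap
      · -- `k = a + 2`, impossible
        omega
      rcases Nat.lt_or_ge k (a + 1 + 1) with hk1 | hk1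
      swap
      · omega
      by_cases hka1 : k = a + 1
      · -- `n = 2 k + 1`
        have h1 : n = k + (k + 1) := by omega
        rw [cm, h1, Nat.choose_symm_add]
        omega
      have hka2 : k ≤ a := by omega
      obtain ⟨m, rfl⟩ : ∃ m, n = m + 1 := ⟨n - 1, by omega⟩
      obtain ⟨h1, h2, h3⟩ := sum_facts hl (by omega)
      have hc1 := corner_last hl (by omega)
      obtain ⟨d2, -, hd2⟩ := exists_deg (dec_rm hl hc1) (n := m) (by have := sum_rm hc1; omega)
      have e2 := ihk (a + 1) (rm l (colLen l 0 - 1)) m d2 (by omega) (dec_rm hl hc1)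
        (by rw [headD_rm_pos (lt_length_of_getD hc1) (by omega)]; exact hh) (by omega)
        (by have := sum_rm hc1; omega) hd2
      by_cases hc : l.getD 1 0 < l.headD 0
      · have hc0 : l.getD (0 + 1) 0 < l.getD 0 0 := by
          rw [← headD_eq_getD, zero_add]; exact hc
        have hlen0 : 0 < l.length := lt_length_of_getD hc0
        obtain ⟨d1, -, hd1⟩ := exists_deg (dec_rm hl hc0) (n := m) (by have := sum_rm hc0; omega)
        have e1 := iha (rm l 0) m d1 (by omega) (dec_rm hl hc0) (by rw [headD_rm_zero hlen0]; omega) (by omega)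
          (by have := sum_rm hc0; omega) hd1
        have h4 := branch_two hl hs (i := 0) (k := colLen l 0 - 1) (by omega) hc0 hc1 hd hd1 hd2
        rw [pascal m (k + 1), cm, cm, pascal m k]
        rw [cm] at e1
        omega
      · -- two equal rows
        have hk2 : k = a := by omega
        have h4 := branch_one hl hs hc1 hd hd2
        have hm : m = k + (k + 1) := by omega
        rw [pascal m (k + 1), cm, cm, pascal m k]
        have h5 : m.choose (k + 1) = m.choose k := by rw [hm, Nat.choose_symm_add]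
        omega

/-- All the partitions with `λ₁, λ'₁ ≤ n - k` have degree `d` with `F ≤ c d`. -/
def LDk (k n c F : ℕ) : Prop := ∀ (l : List ℕ) (d : ℕ), Dec l → l.sum = n → d * hookProd l = n.factorial →
  l.headD 0 + k ≤ n → colLen l 0 + k ≤ n → F ≤ c * d

/-- **The induction step.** -/
theorem ldk_step {k n c F0 F1 F2 : ℕ} (hk : 2 ≤ k) (hn : 2 * k + 3 ≤ n) (ih1 : LDk k n c F1)
    (ih2 : LDk k (n - 1) c F0) (h1 : F2 ≤ 2 * F1) (h2 : F2 ≤ 2 * F0)
    (h3 : F2 + c * (n + 1).choose (k - 1) ≤ c * (n + 1).choose k) : LDk k (n + 1) c F2 := by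
  intro l d hl hs hd hh hc
  have hkk : cm (n + 1) k = (n + 1).choose (k - 1) := by
    obtain ⟨j, rfl⟩ : ∃ j, k = j + 1 := ⟨k - 1, by omega⟩
    rfl
  by_cases hA : l.headD 0 + k = n + 1
  · have e := head_bound k (l.headD 0) l (n + 1) d (by omega) hl rfl (by omega) hs hd
    rw [hkk] at e
    have e' := Nat.mul_le_mul_left c e
    rw [Nat.mul_add] at e'
    omega
  by_cases hB : colLen l 0 + k = n + 1
  · -- transpose
    have h0 : (transpose l).headD 0 = colLen l 0 := by
      rw [headD_eq_getD, getD_transpose hl]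
    have e := head_bound k (colLen l 0) (transpose l) (n + 1) d (by omega) (pairwise_transpose l) h0 (by omega)
      (by rw [sum_transpose hl, hs]) (by rw [hookProd_transpose' hl, hd])
    rw [hkk] at e
    have e' := Nat.mul_le_mul_left c e
    rw [Nat.mul_add] at e'
    omega
  · have hpos : 0 < l.headD 0 := by
      by_contra hne
      have h1 := sum_eq_sum_colLen hl
      rw [show l.headD 0 = 0 by omega, sum_range_zero] at h1
      omega
    have hcpos : 0 < colLen l 0 := by
      rw [← getD_pos_iff hl, ← headD_eq_getD]; exact hpos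
    have hc1 := corner_last hl hcpos
    have hc2 := corner_first hl hpos
    by_cases hne : colLen l (l.headD 0 - 1) - 1 = colLen l 0 - 1
    · -- a rectangle
      have h0 : 0 < colLen l (l.headD 0 - 1) := by
        rw [lt_colLen_iff hl, ← headD_eq_getD]; omega
      have hprod : l.headD 0 * colLen l 0 = n + 1 := by
        rw [← hs, sum_eq_sum_colLen hl]
        rw [← smul_eq_mul, ← card_range (l.headD 0), ← sum_const]
        rw [card_range]
        apply sum_congr rfl
        intro j hj
        rw [mem_range] at hj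
        have h1 := colLen_anti l (Nat.zero_le j)
        have h2 := colLen_anti l (show j ≤ l.headD 0 - 1 by omega)
        omega
      obtain ⟨a, ha⟩ : ∃ a, a = l.headD 0 := ⟨_, rfl⟩
      obtain ⟨b, hb⟩ : ∃ b, b = colLen l 0 := ⟨_, rfl⟩
      rw [← ha, ← hb] at hprod
      have ha2 : 2 ≤ a := by
        by_contra h
        have : a = 1 := by omega
        rw [this, one_mul] at hprod
        omega
      have hb2 : 2 ≤ b := by
        by_contra h
        have : b = 1 := by omega
        rw [this, mul_one] at hprod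
        omega
      have ha3 : a + k ≤ n - 1 := by
        have : a * 2 ≤ a * b := Nat.mul_le_mul_left a hb2
        omega
      have hb3 : b + k ≤ n - 1 := by
        have : 2 * b ≤ a * b := Nat.mul_le_mul_right b ha2
        omega
      rw [← hb] at hc1
      -- remove the corner
      obtain ⟨d1, -, hd1⟩ := exists_deg (dec_rm hl hc1) (n := n) (by have := sum_rm hc1; omega)
      have h4 := branch_one hl hs hc1 hd hd1
      have hl1 := dec_rm hl hc1
      have hs1 : (rm l (b - 1)).sum = (n - 1) + 1 := by have := sum_rm hc1; omega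
      have hlen := lt_length_of_getD hc1
      have e1 : l.getD (b - 1) 0 = a := by
        have h5 := (lt_colLen_iff hl (b - 1) (a - 1)).1 (by rw [ha]; omega)
        have h6 := getD_le_headD hl (b - 1)
        omega
      have e2 : l.getD (b - 2) 0 = a := by
        have h5 := (lt_colLen_iff hl (b - 2) (a - 1)).1 (by rw [ha]; omega)
        have h6 := getD_le_headD hl (b - 2)
        omega
      have e3 : l.getD b 0 = 0 := by
        have : ¬ 0 < l.getD b 0 := by rw [getD_pos_iff hl]; omega
        omega
      have hc3 : (rm l (b - 1)).getD ((b - 2) + 1) 0 < (rm l (b - 1)).getD (b - 2) 0 := by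
        rw [getD_rm hlen, getD_rm hlen, if_pos (by omega), if_neg (by omega), e1, e2]
        omega
      have hc4 : (rm l (b - 1)).getD ((b - 1) + 1) 0 < (rm l (b - 1)).getD (b - 1) 0 := by
        rw [getD_rm hlen, getD_rm hlen, if_neg (by omega), if_pos rfl, e1, show b - 1 + 1 = b by omega, e3]
        omega
      obtain ⟨d2, -, hd2⟩ := exists_deg (dec_rm hl1 hc3) (n := n - 1) (by have := sum_rm hc3; omega)
      obtain ⟨d3, -, hd3⟩ := exists_deg (dec_rm hl1 hc4) (n := n - 1) (by have := sum_rm hc4; omega)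
      have h5 := branch_two hl1 hs1 (i := b - 2) (k := b - 1) (by omega) hc3 hc4
        (by rw [hd1, show n - 1 + 1 = n by omega]) hd2 hd3
      have hhr : (rm l (b - 1)).headD 0 ≤ a := by rw [ha]; exact headD_rm_le hlen
      have hcr : colLen (rm l (b - 1)) 0 ≤ b := (colLen_rm_le hl hc1 0).trans hb.ge
      have h6 := ih2 _ d2 (dec_rm hl1 hc3) (by have := sum_rm hc3; omega) hd2
        (by have := headD_rm_le (l := rm l (b - 1)) (lt_length_of_getD hc3); omega)
        (by have := colLen_rm_le hl1 hc3 0; omega)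
      have h7 := ih2 _ d3 (dec_rm hl1 hc4) (by have := sum_rm hc4; omega) hd3
        (by have := headD_rm_le (l := rm l (b - 1)) (lt_length_of_getD hc4); omega)
        (by have := colLen_rm_le hl1 hc4 0; omega)
      have h8 : c * (d2 + d3) ≤ c * d := Nat.mul_le_mul_left c (h5.trans h4)
      rw [Nat.mul_add] at h8
      omega
    · -- two corners
      obtain ⟨d1, -, hd1⟩ := exists_deg (dec_rm hl hc1) (n := n) (by have := sum_rm hc1; omega)
      obtain ⟨d2, -, hd2⟩ := exists_deg (dec_rm hl hc2) (n := n) (by have := sum_rm hc2; omega)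
      have h4 := branch_two hl hs (Ne.symm hne) hc1 hc2 hd hd1 hd2
      have h5 := ih1 _ d1 (dec_rm hl hc1) (by have := sum_rm hc1; omega) hd1
        (by have := headD_rm_le (l := l) (lt_length_of_getD hc1); omega)
        (by have := colLen_rm_le hl hc1 0; omega)
      have h6 := ih1 _ d2 (dec_rm hl hc2) (by have := sum_rm hc2; omega) hd2
        (by have := headD_rm_le (l := l) (lt_length_of_getD hc2); omega)
        (by have := colLen_rm_le hl hc2 0; omega)
      have h8 : c * (d1 + d2) ≤ c * d := Nat.mul_le_mul_left c h4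
      rw [Nat.mul_add] at h8
      omega

/-- the check of the base cases -/
def lowChk (k n c F : ℕ) (l : List ℕ) (H : ℕ) : Bool :=
  Nat.ble (n + 1) (l.headD 0 + k) || Nat.ble (n + 1) (l.length + k) || Nat.ble (F * H) (c * n.factorial)

theorem ldk_base {k n c F : ℕ} (h : go (lowChk k n c F) (n + 1) n 1 [] 1 = true) : LDk k n c F := by
  intro l d hl hs hd hh hc
  have h1 := check_of_isPart h (isPart_filter hl hs)
  unfold lowChk at h1
  rw [headD_filter_pos hl, length_filter_pos, hookProd_filter hl] at h1
  simp only [Bool.or_eq_true, Nat.ble_eq] at h1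
  rcases h1 with (h1 | h1) | h1
  · omega
  · omega
  · rw [← hd, ← mul_assoc] at h1
    exact Nat.le_of_mul_le_mul_right h1 (hookProd_pos hl)

/-- the bound for `k = 3` -/
def F3 (n : ℕ) : ℕ := n * (n - 1) * (n - 5)

/-- the bound for `k = 4` -/
def F4 (n : ℕ) : ℕ := n * (n - 1) * (n - 2) * (n - 7)

/-- the bound for `k = 5` -/
def F5 (n : ℕ) : ℕ := n * (n - 1) * (n - 2) * (n - 3) * (n - 9)

theorem choose_two (m : ℕ) : 2 * (m + 2).choose 2 = (m + 2) * (m + 1) := by
  have h := Nat.add_one_mul_choose_eq (m + 1) 1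
  rw [Nat.choose_one_right] at h
  linarith

theorem choose_three (m : ℕ) : 6 * (m + 3).choose 3 = (m + 3) * (m + 2) * (m + 1) := by
  have h := Nat.add_one_mul_choose_eq (m + 2) 2
  have h2 := choose_two m
  nlinarith

theorem choose_four (m : ℕ) : 24 * (m + 4).choose 4 = (m + 4) * (m + 3) * (m + 2) * (m + 1) := by
  have h := Nat.add_one_mul_choose_eq (m + 3) 3
  have h2 := choose_three m
  nlinarith

theorem choose_five (m : ℕ) : 120 * (m + 5).choose 5 = (m + 5) * (m + 4) * (m + 3) * (m + 2) * (m + 1) := by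
  have h := Nat.add_one_mul_choose_eq (m + 4) 4
  have h2 := choose_four m
  nlinarith

theorem ld3_13 : LDk 3 13 6 (F3 13) := ldk_base (by decide +kernel)
theorem ld3_14 : LDk 3 14 6 (F3 14) := ldk_base (by decide +kernel)
theorem ld4_15 : LDk 4 15 24 (F4 15) := ldk_base (by decide +kernel)
theorem ld4_16 : LDk 4 16 24 (F4 16) := ldk_base (by decide +kernel)

theorem ld3 {n : ℕ} (hn : 13 ≤ n) : LDk 3 n 6 (F3 n) := by
  have h : LDk 3 n 6 (F3 n) ∧ LDk 3 (n + 1) 6 (F3 (n + 1)) := by
    induction n, hn using Nat.le_induction with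
    | base => exact ⟨ld3_13, ld3_14⟩
    | succ n hn ih =>
      refine ⟨ih.2, ldk_step (n := n + 1) (by omega) (by omega) ih.2 ih.1 ?_ ?_ ?_⟩
      · obtain ⟨m, rfl⟩ := Nat.exists_eq_add_of_le hn
        unfold F3
        rw [show 13 + m + 1 + 1 - 1 = m + 14 by omega, show 13 + m + 1 + 1 - 5 = m + 10 by omega,
          show 13 + m + 1 - 1 = m + 13 by omega, show 13 + m + 1 - 5 = m + 9 by omega]
        nlinarith [Nat.zero_le m, Nat.zero_le (m ^ 2), Nat.zero_le (m ^ 3)]
      · obtain ⟨m, rfl⟩ := Nat.exists_eq_add_of_le hn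
        unfold F3
        rw [show 13 + m + 1 + 1 - 1 = m + 14 by omega, show 13 + m + 1 + 1 - 5 = m + 10 by omega,
          show 13 + m - 1 = m + 12 by omega, show 13 + m - 5 = m + 8 by omega]
        nlinarith [Nat.zero_le m, Nat.zero_le (m ^ 2), Nat.zero_le (m ^ 3)]
      · obtain ⟨m, rfl⟩ := Nat.exists_eq_add_of_le hn
        unfold F3
        rw [show 13 + m + 1 + 1 - 1 = m + 14 by omega, show 13 + m + 1 + 1 - 5 = m + 10 by omega]
        have h3 := choose_three (m + 12)
        have h2 := choose_two (m + 13)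
        rw [show m + 12 + 3 = 13 + m + 1 + 1 by ring] at h3
        rw [show m + 13 + 2 = 13 + m + 1 + 1 by ring] at h2
        change (13 + m + 1 + 1) * (m + 14) * (m + 10) + 6 * (13 + m + 1 + 1).choose 2 ≤
          6 * (13 + m + 1 + 1).choose 3
        rw [h3]
        nlinarith
  exact h.1

theorem ld4 {n : ℕ} (hn : 15 ≤ n) : LDk 4 n 24 (F4 n) := by
  have h : LDk 4 n 24 (F4 n) ∧ LDk 4 (n + 1) 24 (F4 (n + 1)) := by
    induction n, hn using Nat.le_induction with
    | base => exact ⟨ld4_15, ld4_16⟩
    | succ n hn ih =>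
      refine ⟨ih.2, ldk_step (n := n + 1) (by omega) (by omega) ih.2 ih.1 ?_ ?_ ?_⟩
      · obtain ⟨m, rfl⟩ := Nat.exists_eq_add_of_le hn
        unfold F4
        rw [show 15 + m + 1 + 1 - 1 = m + 16 by omega, show 15 + m + 1 + 1 - 2 = m + 15 by omega,
          show 15 + m + 1 + 1 - 7 = m + 10 by omega, show 15 + m + 1 - 1 = m + 15 by omega,
          show 15 + m + 1 - 2 = m + 14 by omega, show 15 + m + 1 - 7 = m + 9 by omega]
        nlinarith [Nat.zero_le m, Nat.zero_le (m ^ 2), Nat.zero_le (m ^ 3), Nat.zero_le (m ^ 4)]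
      · obtain ⟨m, rfl⟩ := Nat.exists_eq_add_of_le hn
        unfold F4
        rw [show 15 + m + 1 + 1 - 1 = m + 16 by omega, show 15 + m + 1 + 1 - 2 = m + 15 by omega,
          show 15 + m + 1 + 1 - 7 = m + 10 by omega, show 15 + m - 1 = m + 14 by omega,
          show 15 + m - 2 = m + 13 by omega, show 15 + m - 7 = m + 8 by omega]
        nlinarith [Nat.zero_le m, Nat.zero_le (m ^ 2), Nat.zero_le (m ^ 3), Nat.zero_le (m ^ 4)]
      · obtain ⟨m, rfl⟩ := Nat.exists_eq_add_of_le hn
        unfold F4
        rw [show 15 + m + 1 + 1 - 1 = m + 16 by omega, show 15 + m + 1 + 1 - 2 = m + 15 by omega,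
          show 15 + m + 1 + 1 - 7 = m + 10 by omega]
        have h4 := choose_four (m + 13)
        have h3 := choose_three (m + 14)
        rw [show m + 13 + 4 = 15 + m + 1 + 1 by ring] at h4
        rw [show m + 14 + 3 = 15 + m + 1 + 1 by ring] at h3
        change (15 + m + 1 + 1) * (m + 16) * (m + 15) * (m + 10) + 24 * (15 + m + 1 + 1).choose 3 ≤
          24 * (15 + m + 1 + 1).choose 4
        rw [h4]
        have h5 : 24 * (15 + m + 1 + 1).choose 3 = 4 * ((15 + m + 1 + 1) * (m + 14 + 2) * (m + 14 + 1)) := by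
          rw [← h3]; ring
        rw [h5]
        nlinarith
  exact h.1

/-! ### exact depth two and three -/

theorem rowHook_split {a c : ℕ} {t : List ℕ} (h : ∀ j, c ≤ j → colLen t j = 0) :
    rowHook (a + c) t = (∏ j ∈ range c, (a + c - j + colLen t j)) * a.factorial := by
  rw [rowHook_eq, show a + c = c + a by ring, prod_range_add]
  congr 1
  rw [← prod_range_sub']
  apply prod_congr rfl
  intro j _
  rw [h (c + j) (by omega)]
  omega

theorem tail_part {l : List ℕ} {n k : ℕ} (hl : IsPart l n) (hn : 0 < n) (hh : l.headD 0 + k = n) :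
    ∃ t, l = (l.headD 0) :: t ∧ IsPart t k := by
  obtain ⟨hs, hp, hsum⟩ := hl
  cases l with
  | nil => rw [List.sum_nil] at hsum; omega
  | cons a t =>
    rw [List.headD_cons] at hh ⊢
    rw [List.sum_cons] at hsum
    exact ⟨t, rfl, hs.of_cons, fun x hx => hp x (List.mem_cons_of_mem _ hx), by omega⟩

theorem part_two {t : List ℕ} (h : IsPart t 2) : t = [2] ∨ t = [1, 1] := by
  have := check_of_isPart (n := 2) (chk := fun l _ => decide (l = [2]) || decide (l = [1, 1])) (by decide +kernel) h
  simpa using this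

theorem part_three {t : List ℕ} (h : IsPart t 3) : t = [3] ∨ t = [2, 1] ∨ t = [1, 1, 1] := by
  have := check_of_isPart (n := 3) (chk := fun l _ => decide (l = [3]) || decide (l = [2, 1]) || decide (l = [1, 1, 1]))
    (by decide +kernel) h
  simp only [Bool.or_eq_true, decide_eq_true_eq] at this
  tauto

theorem depth_two {l : List ℕ} {n d : ℕ} (hn : 5 ≤ n) (hl : IsPart l n) (hd : d * hookProd l = n.factorial)
    (hh : l.headD 0 + 2 = n) : 2 * d = n * (n - 3) ∨ 2 * d = (n - 1) * (n - 2) := by
  obtain ⟨t, ht, hpt⟩ := tail_part hl (by omega) hh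
  obtain ⟨a, ha⟩ : ∃ a, l.headD 0 = a + 2 := ⟨l.headD 0 - 2, by omega⟩
  rw [ha] at ht hh
  subst hh
  rw [ht, hookProd] at hd
  have hfac : (a + 2 + 2).factorial = (a + 4) * (a + 3) * (a + 2) * (a + 1) * a.factorial := by
    rw [show a + 2 + 2 = a + 1 + 1 + 1 + 1 by ring]
    simp only [Nat.factorial_succ]
    ring
  rw [hfac] at hd
  have h0 : 0 < a.factorial := Nat.factorial_pos a
  rcases part_two hpt with rfl | rfl
  · left
    rw [rowHook_split (c := 2) (t := [2]) (by
      intro j hj
      exact colLen_eq_zero (by simp only [List.mem_singleton]; intro x hx; omega))] at hd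
    have e1 : colLen [2] 0 = 1 := by decide
    have e2 : colLen [2] 1 = 1 := by decide
    have e3 : hookProd [2] = 2 := by decide
    rw [prod_range_succ, prod_range_one, e1, e2, e3] at hd
    rw [show a + 2 + 2 - 3 = a + 1 by omega]
    rw [show a + 2 - 0 = a + 2 by omega, show a + 2 - 1 = a + 1 by omega] at hd
    have h5 : (2 * d) * ((a + 3) * (a + 2) * a.factorial) = ((a + 2 + 2) * (a + 1)) * ((a + 3) * (a + 2) * a.factorial) := by
      rw [show (a + 2 + 2) * (a + 1) * ((a + 3) * (a + 2) * a.factorial) =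
        (a + 4) * (a + 3) * (a + 2) * (a + 1) * a.factorial by ring, ← hd]
      ring
    exact Nat.eq_of_mul_eq_mul_right (by positivity) h5
  · right
    rw [show a + 2 = (a + 1) + 1 by ring, rowHook_split (c := 1) (t := [1, 1]) (by
      intro j hj
      exact colLen_eq_zero (by simp only [List.mem_cons, List.not_mem_nil, or_false]; intro x hx; omega))] at hd
    have e1 : colLen [1, 1] 0 = 2 := by decide
    have e3 : hookProd [1, 1] = 2 := by decide
    rw [prod_range_one, e1, e3, Nat.factorial_succ] at hd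
    rw [show a + 2 + 2 - 1 = a + 3 by omega, show a + 2 + 2 - 2 = a + 2 by omega]
    rw [show a + 1 + 1 - 0 = a + 2 by omega] at hd
    have h5 : (2 * d) * ((a + 4) * (a + 1) * a.factorial) = ((a + 3) * (a + 2)) * ((a + 4) * (a + 1) * a.factorial) := by
      rw [show (a + 3) * (a + 2) * ((a + 4) * (a + 1) * a.factorial) =
        (a + 4) * (a + 3) * (a + 2) * (a + 1) * a.factorial by ring, ← hd]
      ring
    exact Nat.eq_of_mul_eq_mul_right (by positivity) h5

theorem depth_three {l : List ℕ} {n d : ℕ} (hn : 7 ≤ n) (hl : IsPart l n) (hd : d * hookProd l = n.factorial)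
    (hh : l.headD 0 + 3 = n) : 6 * d = n * (n - 1) * (n - 5) ∨ 3 * d = n * (n - 2) * (n - 4) ∨
      6 * d = (n - 1) * (n - 2) * (n - 3) := by
  obtain ⟨t, ht, hpt⟩ := tail_part hl (by omega) hh
  obtain ⟨a, ha⟩ : ∃ a, l.headD 0 = a + 3 := ⟨l.headD 0 - 3, by omega⟩
  rw [ha] at ht hh
  subst hh
  rw [ht, hookProd] at hd
  have hfac : (a + 3 + 3).factorial = (a + 6) * (a + 5) * (a + 4) * (a + 3) * (a + 2) * (a + 1) * a.factorial := by
    rw [show a + 3 + 3 = a + 1 + 1 + 1 + 1 + 1 + 1 by ring]
    simp only [Nat.factorial_succ]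
    ring
  rw [hfac] at hd
  have h0 : 0 < a.factorial := Nat.factorial_pos a
  rcases part_three hpt with rfl | rfl | rfl
  · left
    rw [rowHook_split (c := 3) (t := [3]) (by
      intro j hj
      exact colLen_eq_zero (by simp only [List.mem_singleton]; intro x hx; omega))] at hd
    have e1 : colLen [3] 0 = 1 := by decide
    have e2 : colLen [3] 1 = 1 := by decide
    have e2' : colLen [3] 2 = 1 := by decide
    have e3 : hookProd [3] = 6 := by decide
    rw [prod_range_succ, prod_range_succ, prod_range_one, e1, e2, e2', e3] at hd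
    rw [show a + 3 + 3 - 1 = a + 5 by omega, show a + 3 + 3 - 5 = a + 1 by omega]
    rw [show a + 3 - 0 = a + 3 by omega, show a + 3 - 1 = a + 2 by omega, show a + 3 - 2 = a + 1 by omega] at hd
    have h5 : (6 * d) * ((a + 4) * (a + 3) * (a + 2) * a.factorial) =
        ((a + 3 + 3) * (a + 5) * (a + 1)) * ((a + 4) * (a + 3) * (a + 2) * a.factorial) := by
      rw [show (a + 3 + 3) * (a + 5) * (a + 1) * ((a + 4) * (a + 3) * (a + 2) * a.factorial) =
        (a + 6) * (a + 5) * (a + 4) * (a + 3) * (a + 2) * (a + 1) * a.factorial by ring, ← hd]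
      ring
    exact Nat.eq_of_mul_eq_mul_right (by positivity) h5
  · right; left
    rw [show a + 3 = (a + 1) + 2 by ring, rowHook_split (c := 2) (t := [2, 1]) (by
      intro j hj
      exact colLen_eq_zero (by simp only [List.mem_cons, List.not_mem_nil, or_false]; intro x hx; omega))] at hd
    have e1 : colLen [2, 1] 0 = 2 := by decide
    have e2 : colLen [2, 1] 1 = 1 := by decide
    have e3 : hookProd [2, 1] = 3 := by decide
    rw [prod_range_succ, prod_range_one, e1, e2, e3, Nat.factorial_succ] at hd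
    rw [show a + 3 + 3 - 2 = a + 4 by omega, show a + 3 + 3 - 4 = a + 2 by omega]
    rw [show a + 1 + 2 - 0 = a + 3 by omega, show a + 1 + 2 - 1 = a + 2 by omega] at hd
    have h5 : (3 * d) * ((a + 5) * (a + 3) * (a + 1) * a.factorial) =
        ((a + 3 + 3) * (a + 4) * (a + 2)) * ((a + 5) * (a + 3) * (a + 1) * a.factorial) := by
      rw [show (a + 3 + 3) * (a + 4) * (a + 2) * ((a + 5) * (a + 3) * (a + 1) * a.factorial) =
        (a + 6) * (a + 5) * (a + 4) * (a + 3) * (a + 2) * (a + 1) * a.factorial by ring, ← hd]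
      ring
    exact Nat.eq_of_mul_eq_mul_right (by positivity) h5
  · right; right
    rw [show a + 3 = (a + 2) + 1 by ring, rowHook_split (c := 1) (t := [1, 1, 1]) (by
      intro j hj
      exact colLen_eq_zero (by simp only [List.mem_cons, List.not_mem_nil, or_false]; intro x hx; omega))] at hd
    have e1 : colLen [1, 1, 1] 0 = 3 := by decide
    have e3 : hookProd [1, 1, 1] = 6 := by decide
    rw [prod_range_one, e1, e3, Nat.factorial_succ, Nat.factorial_succ] at hd
    rw [show a + 3 + 3 - 1 = a + 5 by omega, show a + 3 + 3 - 2 = a + 4 by omega, show a + 3 + 3 - 3 = a + 3 by omega]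
    rw [show a + 2 + 1 - 0 = a + 3 by omega] at hd
    have h5 : (6 * d) * ((a + 6) * (a + 2) * (a + 1) * a.factorial) =
        ((a + 5) * (a + 4) * (a + 3)) * ((a + 6) * (a + 2) * (a + 1) * a.factorial) := by
      rw [show (a + 5) * (a + 4) * (a + 3) * ((a + 6) * (a + 2) * (a + 1) * a.factorial) =
        (a + 6) * (a + 5) * (a + 4) * (a + 3) * (a + 2) * (a + 1) * a.factorial by ring, ← hd]
      ring
    exact Nat.eq_of_mul_eq_mul_right (by positivity) h5

end Cfsg.Agent.H313.AD
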