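import Cfsg.Agent.H313.AltDeg.Alt

/-!
# The small degrees of the alternating groups, depth four (helper313)

`alt_low5` : for `23 ≤ n`, a degree of `A_n` is one of the explicit degrees of depth at most four or
at least `n (n - 1) (n - 2) (n - 3) (n - 9) / 120`.
-/

set_option autoImplicit false
set_option linter.unusedSectionVars false

namespace Cfsg.Agent.H313.AD

open Finset Cfsg.Agent.H704

/-- the bound for `k = 6` -/
def F6 (n : ℕ) : ℕ := n * (n - 1) * (n - 2) * (n - 3) * (n - 4) * (n - 11)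

theorem choose_six (m : ℕ) : 720 * (m + 6).choose 6 = (m + 6) * (m + 5) * (m + 4) * (m + 3) * (m + 2) * (m + 1) := by
  have h := Nat.add_one_mul_choose_eq (m + 5) 5
  have h2 := choose_five m
  nlinarith

theorem ld5_19 : LDk 5 19 120 (F5 19) := ldk_base (by decide +kernel)
theorem ld5_20 : LDk 5 20 120 (F5 20) := ldk_base (by decide +kernel)
theorem ld6_21 : LDk 6 21 720 (F6 21) := ldk_base (by decide +kernel)
theorem ld6_22 : LDk 6 22 720 (F6 22) := ldk_base (by decide +kernel)

theorem ld5 {n : ℕ} (hn : 19 ≤ n) : LDk 5 n 120 (F5 n) := by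
  have h : LDk 5 n 120 (F5 n) ∧ LDk 5 (n + 1) 120 (F5 (n + 1)) := by
    induction n, hn using Nat.le_induction with
    | base => exact ⟨ld5_19, ld5_20⟩
    | succ n hn ih =>
      refine ⟨ih.2, ldk_step (n := n + 1) (by omega) (by omega) ih.2 ih.1 ?_ ?_ ?_⟩
      · obtain ⟨m, rfl⟩ := Nat.exists_eq_add_of_le hn
        unfold F5
        rw [show 19 + m + 1 + 1 - 1 = m + 20 by omega, show 19 + m + 1 + 1 - 2 = m + 19 by omega,
          show 19 + m + 1 + 1 - 3 = m + 18 by omega,
          show 19 + m + 1 + 1 - 9 = m + 12 by omega, show 19 + m + 1 - 1 = m + 19 by omega,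
          show 19 + m + 1 - 2 = m + 18 by omega, show 19 + m + 1 - 3 = m + 17 by omega,
          show 19 + m + 1 - 9 = m + 11 by omega]
        have h1 : (19 + m + 1 + 1) * (m + 12) ≤ 2 * ((m + 17) * (m + 11)) := by nlinarith
        calc (19 + m + 1 + 1) * (m + 20) * (m + 19) * (m + 18) * (m + 12)
            = ((19 + m + 1 + 1) * (m + 12)) * ((m + 20) * (m + 19) * (m + 18)) := by ring
          _ ≤ (2 * ((m + 17) * (m + 11))) * ((m + 20) * (m + 19) * (m + 18)) := Nat.mul_le_mul_right _ h1
          _ = 2 * ((19 + m + 1) * (m + 19) * (m + 18) * (m + 17) * (m + 11)) := by ring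
      · obtain ⟨m, rfl⟩ := Nat.exists_eq_add_of_le hn
        unfold F5
        rw [show 19 + m + 1 + 1 - 1 = m + 20 by omega, show 19 + m + 1 + 1 - 2 = m + 19 by omega,
          show 19 + m + 1 + 1 - 3 = m + 18 by omega,
          show 19 + m + 1 + 1 - 9 = m + 12 by omega, show 19 + m - 1 = m + 18 by omega,
          show 19 + m - 2 = m + 17 by omega, show 19 + m - 3 = m + 16 by omega,
          show 19 + m - 9 = m + 10 by omega]
        have h1 : (19 + m + 1 + 1) * (m + 20) * (m + 12) ≤ 2 * ((m + 17) * (m + 16) * (m + 10)) := by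
          nlinarith [Nat.zero_le m, Nat.zero_le (m ^ 2), Nat.zero_le (m ^ 3)]
        calc (19 + m + 1 + 1) * (m + 20) * (m + 19) * (m + 18) * (m + 12)
            = ((19 + m + 1 + 1) * (m + 20) * (m + 12)) * ((m + 19) * (m + 18)) := by ring
          _ ≤ (2 * ((m + 17) * (m + 16) * (m + 10))) * ((m + 19) * (m + 18)) := Nat.mul_le_mul_right _ h1
          _ = 2 * ((19 + m) * (m + 18) * (m + 17) * (m + 16) * (m + 10)) := by ring
      · obtain ⟨m, rfl⟩ := Nat.exists_eq_add_of_le hn
        unfold F5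
        rw [show 19 + m + 1 + 1 - 1 = m + 20 by omega, show 19 + m + 1 + 1 - 2 = m + 19 by omega,
          show 19 + m + 1 + 1 - 3 = m + 18 by omega, show 19 + m + 1 + 1 - 9 = m + 12 by omega]
        have h4 := choose_five (m + 16)
        have h3 := choose_four (m + 17)
        rw [show m + 16 + 5 = 19 + m + 1 + 1 by ring] at h4
        rw [show m + 17 + 4 = 19 + m + 1 + 1 by ring] at h3
        change (19 + m + 1 + 1) * (m + 20) * (m + 19) * (m + 18) * (m + 12) + 120 * (19 + m + 1 + 1).choose 4 ≤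
          120 * (19 + m + 1 + 1).choose 5
        rw [h4]
        have h5 : 120 * (19 + m + 1 + 1).choose 4 =
            5 * ((19 + m + 1 + 1) * (m + 17 + 3) * (m + 17 + 2) * (m + 17 + 1)) := by
          rw [← h3]; ring
        rw [h5]
        have h6 : (m + 12) + 5 ≤ m + 16 + 1 := by omega
        calc (19 + m + 1 + 1) * (m + 20) * (m + 19) * (m + 18) * (m + 12) +
              5 * ((19 + m + 1 + 1) * (m + 17 + 3) * (m + 17 + 2) * (m + 17 + 1))
            = ((19 + m + 1 + 1) * (m + 20) * (m + 19) * (m + 18)) * ((m + 12) + 5) := by ring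
          _ ≤ ((19 + m + 1 + 1) * (m + 20) * (m + 19) * (m + 18)) * (m + 16 + 1) := Nat.mul_le_mul_left _ h6
          _ = (19 + m + 1 + 1) * (m + 16 + 4) * (m + 16 + 3) * (m + 16 + 2) * (m + 16 + 1) := by ring
  exact h.1

theorem ld6 {n : ℕ} (hn : 21 ≤ n) : LDk 6 n 720 (F6 n) := by
  have h : LDk 6 n 720 (F6 n) ∧ LDk 6 (n + 1) 720 (F6 (n + 1)) := by
    induction n, hn using Nat.le_induction with
    | base => exact ⟨ld6_21, ld6_22⟩
    | succ n hn ih =>
      refine ⟨ih.2, ldk_step (n := n + 1) (by omega) (by omega) ih.2 ih.1 ?_ ?_ ?_⟩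
      · obtain ⟨m, rfl⟩ := Nat.exists_eq_add_of_le hn
        unfold F6
        rw [show 21 + m + 1 + 1 - 1 = m + 22 by omega, show 21 + m + 1 + 1 - 2 = m + 21 by omega,
          show 21 + m + 1 + 1 - 3 = m + 20 by omega, show 21 + m + 1 + 1 - 4 = m + 19 by omega,
          show 21 + m + 1 + 1 - 11 = m + 12 by omega, show 21 + m + 1 - 1 = m + 21 by omega,
          show 21 + m + 1 - 2 = m + 20 by omega, show 21 + m + 1 - 3 = m + 19 by omega,
          show 21 + m + 1 - 4 = m + 18 by omega, show 21 + m + 1 - 11 = m + 11 by omega]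
        have h1 : (21 + m + 1 + 1) * (m + 12) ≤ 2 * ((m + 18) * (m + 11)) := by nlinarith
        calc (21 + m + 1 + 1) * (m + 22) * (m + 21) * (m + 20) * (m + 19) * (m + 12)
            = ((21 + m + 1 + 1) * (m + 12)) * ((m + 22) * (m + 21) * (m + 20) * (m + 19)) := by ring
          _ ≤ (2 * ((m + 18) * (m + 11))) * ((m + 22) * (m + 21) * (m + 20) * (m + 19)) := Nat.mul_le_mul_right _ h1
          _ = 2 * ((21 + m + 1) * (m + 21) * (m + 20) * (m + 19) * (m + 18) * (m + 11)) := by ring
      · obtain ⟨m, rfl⟩ := Nat.exists_eq_add_of_le hn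
        unfold F6
        rw [show 21 + m + 1 + 1 - 1 = m + 22 by omega, show 21 + m + 1 + 1 - 2 = m + 21 by omega,
          show 21 + m + 1 + 1 - 3 = m + 20 by omega, show 21 + m + 1 + 1 - 4 = m + 19 by omega,
          show 21 + m + 1 + 1 - 11 = m + 12 by omega, show 21 + m - 1 = m + 20 by omega,
          show 21 + m - 2 = m + 19 by omega, show 21 + m - 3 = m + 18 by omega,
          show 21 + m - 4 = m + 17 by omega, show 21 + m - 11 = m + 10 by omega]
        have h1 : (21 + m + 1 + 1) * (m + 22) * (m + 12) ≤ 2 * ((m + 18) * (m + 17) * (m + 10)) := by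
          nlinarith [Nat.zero_le m, Nat.zero_le (m ^ 2), Nat.zero_le (m ^ 3)]
        calc (21 + m + 1 + 1) * (m + 22) * (m + 21) * (m + 20) * (m + 19) * (m + 12)
            = ((21 + m + 1 + 1) * (m + 22) * (m + 12)) * ((m + 21) * (m + 20) * (m + 19)) := by ring
          _ ≤ (2 * ((m + 18) * (m + 17) * (m + 10))) * ((m + 21) * (m + 20) * (m + 19)) := Nat.mul_le_mul_right _ h1
          _ = 2 * ((21 + m) * (m + 20) * (m + 19) * (m + 18) * (m + 17) * (m + 10)) := by ring
      · obtain ⟨m, rfl⟩ := Nat.exists_eq_add_of_le hn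
        unfold F6
        rw [show 21 + m + 1 + 1 - 1 = m + 22 by omega, show 21 + m + 1 + 1 - 2 = m + 21 by omega,
          show 21 + m + 1 + 1 - 3 = m + 20 by omega, show 21 + m + 1 + 1 - 4 = m + 19 by omega,
          show 21 + m + 1 + 1 - 11 = m + 12 by omega]
        have h4 := choose_six (m + 17)
        have h3 := choose_five (m + 18)
        rw [show m + 17 + 6 = 21 + m + 1 + 1 by ring] at h4
        rw [show m + 18 + 5 = 21 + m + 1 + 1 by ring] at h3
        change (21 + m + 1 + 1) * (m + 22) * (m + 21) * (m + 20) * (m + 19) * (m + 12) +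
          720 * (21 + m + 1 + 1).choose 5 ≤ 720 * (21 + m + 1 + 1).choose 6
        rw [h4]
        have h5 : 720 * (21 + m + 1 + 1).choose 5 =
            6 * ((21 + m + 1 + 1) * (m + 18 + 4) * (m + 18 + 3) * (m + 18 + 2) * (m + 18 + 1)) := by
          rw [← h3]; ring
        rw [h5]
        have h6 : (m + 12) + 6 ≤ m + 17 + 1 := by omega
        calc (21 + m + 1 + 1) * (m + 22) * (m + 21) * (m + 20) * (m + 19) * (m + 12) +
              6 * ((21 + m + 1 + 1) * (m + 18 + 4) * (m + 18 + 3) * (m + 18 + 2) * (m + 18 + 1))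
            = ((21 + m + 1 + 1) * (m + 22) * (m + 21) * (m + 20) * (m + 19)) * ((m + 12) + 6) := by ring
          _ ≤ ((21 + m + 1 + 1) * (m + 22) * (m + 21) * (m + 20) * (m + 19)) * (m + 17 + 1) := Nat.mul_le_mul_left _ h6
          _ = (21 + m + 1 + 1) * (m + 17 + 5) * (m + 17 + 4) * (m + 17 + 3) * (m + 17 + 2) * (m + 17 + 1) := by ring
  exact h.1

theorem part_four {t : List ℕ} (h : IsPart t 4) :
    t = [4] ∨ t = [3, 1] ∨ t = [2, 2] ∨ t = [2, 1, 1] ∨ t = [1, 1, 1, 1] := by
  have := check_of_isPart (n := 4) (chk := fun l _ => decide (l = [4]) || decide (l = [3, 1]) || decide (l = [2, 2]) ||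
    decide (l = [2, 1, 1]) || decide (l = [1, 1, 1, 1])) (by decide +kernel) h
  simp only [Bool.or_eq_true, decide_eq_true_eq] at this
  tauto

theorem depth_four {l : List ℕ} {n d : ℕ} (hn : 9 ≤ n) (hl : IsPart l n) (hd : d * hookProd l = n.factorial)
    (hh : l.headD 0 + 4 = n) : 24 * d = n * (n - 1) * (n - 2) * (n - 7) ∨ 8 * d = n * (n - 1) * (n - 3) * (n - 6) ∨
      12 * d = n * (n - 1) * (n - 4) * (n - 5) ∨ 8 * d = n * (n - 2) * (n - 3) * (n - 5) ∨
      24 * d = (n - 1) * (n - 2) * (n - 3) * (n - 4) := by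
  obtain ⟨t, ht, hpt⟩ := tail_part hl (by omega) hh
  obtain ⟨a, ha⟩ : ∃ a, l.headD 0 = a + 4 := ⟨l.headD 0 - 4, by omega⟩
  rw [ha] at ht hh
  subst hh
  rw [ht, hookProd] at hd
  have hfac : (a + 4 + 4).factorial =
      (a + 8) * (a + 7) * (a + 6) * (a + 5) * (a + 4) * (a + 3) * (a + 2) * (a + 1) * a.factorial := by
    rw [show a + 4 + 4 = a + 1 + 1 + 1 + 1 + 1 + 1 + 1 + 1 by ring]
    simp only [Nat.factorial_succ]
    ring
  rw [hfac] at hd
  have h0 : 0 < a.factorial := Nat.factorial_pos a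
  rw [show a + 4 + 4 - 1 = a + 7 by omega, show a + 4 + 4 - 2 = a + 6 by omega, show a + 4 + 4 - 3 = a + 5 by omega,
    show a + 4 + 4 - 4 = a + 4 by omega, show a + 4 + 4 - 5 = a + 3 by omega, show a + 4 + 4 - 6 = a + 2 by omega,
    show a + 4 + 4 - 7 = a + 1 by omega]
  rcases part_four hpt with rfl | rfl | rfl | rfl | rfl
  · left
    rw [rowHook_split (c := 4) (t := [4]) (by
      intro j hj
      exact colLen_eq_zero (by simp only [List.mem_singleton]; intro x hx; omega))] at hd
    have e0 : colLen [4] 0 = 1 := by decide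
    have e1 : colLen [4] 1 = 1 := by decide
    have e2 : colLen [4] 2 = 1 := by decide
    have e3 : colLen [4] 3 = 1 := by decide
    have e4 : hookProd [4] = 24 := by decide
    rw [prod_range_succ, prod_range_succ, prod_range_succ, prod_range_one, e0, e1, e2, e3, e4] at hd
    rw [show a + 4 - 0 = a + 4 by omega, show a + 4 - 1 = a + 3 by omega, show a + 4 - 2 = a + 2 by omega,
      show a + 4 - 3 = a + 1 by omega] at hd
    have h5 : (24 * d) * ((a + 5) * (a + 4) * (a + 3) * (a + 2) * a.factorial) =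
        ((a + 4 + 4) * (a + 7) * (a + 6) * (a + 1)) * ((a + 5) * (a + 4) * (a + 3) * (a + 2) * a.factorial) := by
      rw [show (a + 4 + 4) * (a + 7) * (a + 6) * (a + 1) * ((a + 5) * (a + 4) * (a + 3) * (a + 2) * a.factorial) =
        (a + 8) * (a + 7) * (a + 6) * (a + 5) * (a + 4) * (a + 3) * (a + 2) * (a + 1) * a.factorial by ring, ← hd]
      ring
    exact Nat.eq_of_mul_eq_mul_right (by positivity) h5
  · right; left
    rw [show a + 4 = (a + 1) + 3 by ring, rowHook_split (c := 3) (t := [3, 1]) (by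
      intro j hj
      exact colLen_eq_zero (by simp only [List.mem_cons, List.not_mem_nil, or_false]; intro x hx; omega))] at hd
    have e0 : colLen [3, 1] 0 = 2 := by decide
    have e1 : colLen [3, 1] 1 = 1 := by decide
    have e2 : colLen [3, 1] 2 = 1 := by decide
    have e4 : hookProd [3, 1] = 8 := by decide
    rw [prod_range_succ, prod_range_succ, prod_range_one, e0, e1, e2, e4, Nat.factorial_succ] at hd
    rw [show a + 1 + 3 - 0 = a + 4 by omega, show a + 1 + 3 - 1 = a + 3 by omega,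
      show a + 1 + 3 - 2 = a + 2 by omega] at hd
    have h5 : (8 * d) * ((a + 6) * (a + 4) * (a + 3) * (a + 1) * a.factorial) =
        ((a + 4 + 4) * (a + 7) * (a + 5) * (a + 2)) * ((a + 6) * (a + 4) * (a + 3) * (a + 1) * a.factorial) := by
      rw [show (a + 4 + 4) * (a + 7) * (a + 5) * (a + 2) * ((a + 6) * (a + 4) * (a + 3) * (a + 1) * a.factorial) =
        (a + 8) * (a + 7) * (a + 6) * (a + 5) * (a + 4) * (a + 3) * (a + 2) * (a + 1) * a.factorial by ring, ← hd]
      ring
    exact Nat.eq_of_mul_eq_mul_right (by positivity) h5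
  · right; right; left
    rw [show a + 4 = (a + 2) + 2 by ring, rowHook_split (c := 2) (t := [2, 2]) (by
      intro j hj
      exact colLen_eq_zero (by simp only [List.mem_cons, List.not_mem_nil, or_false]; intro x hx; omega))] at hd
    have e0 : colLen [2, 2] 0 = 2 := by decide
    have e1 : colLen [2, 2] 1 = 2 := by decide
    have e4 : hookProd [2, 2] = 12 := by decide
    rw [prod_range_succ, prod_range_one, e0, e1, e4, Nat.factorial_succ, Nat.factorial_succ] at hd
    rw [show a + 2 + 2 - 0 = a + 4 by omega, show a + 2 + 2 - 1 = a + 3 by omega] at hd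
    have h5 : (12 * d) * ((a + 6) * (a + 5) * (a + 2) * (a + 1) * a.factorial) =
        ((a + 4 + 4) * (a + 7) * (a + 4) * (a + 3)) * ((a + 6) * (a + 5) * (a + 2) * (a + 1) * a.factorial) := by
      rw [show (a + 4 + 4) * (a + 7) * (a + 4) * (a + 3) * ((a + 6) * (a + 5) * (a + 2) * (a + 1) * a.factorial) =
        (a + 8) * (a + 7) * (a + 6) * (a + 5) * (a + 4) * (a + 3) * (a + 2) * (a + 1) * a.factorial by ring, ← hd]
      ring
    exact Nat.eq_of_mul_eq_mul_right (by positivity) h5
  · right; right; right; left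
    rw [show a + 4 = (a + 2) + 2 by ring, rowHook_split (c := 2) (t := [2, 1, 1]) (by
      intro j hj
      exact colLen_eq_zero (by simp only [List.mem_cons, List.not_mem_nil, or_false]; intro x hx; omega))] at hd
    have e0 : colLen [2, 1, 1] 0 = 3 := by decide
    have e1 : colLen [2, 1, 1] 1 = 1 := by decide
    have e4 : hookProd [2, 1, 1] = 8 := by decide
    rw [prod_range_succ, prod_range_one, e0, e1, e4, Nat.factorial_succ, Nat.factorial_succ] at hd
    rw [show a + 2 + 2 - 0 = a + 4 by omega, show a + 2 + 2 - 1 = a + 3 by omega] at hd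
    have h5 : (8 * d) * ((a + 7) * (a + 4) * (a + 2) * (a + 1) * a.factorial) =
        ((a + 4 + 4) * (a + 6) * (a + 5) * (a + 3)) * ((a + 7) * (a + 4) * (a + 2) * (a + 1) * a.factorial) := by
      rw [show (a + 4 + 4) * (a + 6) * (a + 5) * (a + 3) * ((a + 7) * (a + 4) * (a + 2) * (a + 1) * a.factorial) =
        (a + 8) * (a + 7) * (a + 6) * (a + 5) * (a + 4) * (a + 3) * (a + 2) * (a + 1) * a.factorial by ring, ← hd]
      ring
    exact Nat.eq_of_mul_eq_mul_right (by positivity) h5
  · right; right; right; right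
    rw [show a + 4 = (a + 3) + 1 by ring, rowHook_split (c := 1) (t := [1, 1, 1, 1]) (by
      intro j hj
      exact colLen_eq_zero (by simp only [List.mem_cons, List.not_mem_nil, or_false]; intro x hx; omega))] at hd
    have e0 : colLen [1, 1, 1, 1] 0 = 4 := by decide
    have e4 : hookProd [1, 1, 1, 1] = 24 := by decide
    rw [prod_range_one, e0, e4, Nat.factorial_succ, Nat.factorial_succ, Nat.factorial_succ] at hd
    rw [show a + 3 + 1 - 0 = a + 4 by omega] at hd
    have h5 : (24 * d) * ((a + 8) * (a + 3) * (a + 2) * (a + 1) * a.factorial) =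
        ((a + 7) * (a + 6) * (a + 5) * (a + 4)) * ((a + 8) * (a + 3) * (a + 2) * (a + 1) * a.factorial) := by
      rw [show (a + 7) * (a + 6) * (a + 5) * (a + 4) * ((a + 8) * (a + 3) * (a + 2) * (a + 1) * a.factorial) =
        (a + 8) * (a + 7) * (a + 6) * (a + 5) * (a + 4) * (a + 3) * (a + 2) * (a + 1) * a.factorial by ring, ← hd]
      ring
    exact Nat.eq_of_mul_eq_mul_right (by positivity) h5

/-- the degrees of depth at most four, or large ones -/
def Form (n d : ℕ) : Prop :=
  d = 1 ∨ d = n - 1 ∨ 2 * d = n * (n - 3) ∨ 2 * d = (n - 1) * (n - 2) ∨ 6 * d = n * (n - 1) * (n - 5) ∨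
    3 * d = n * (n - 2) * (n - 4) ∨ 6 * d = (n - 1) * (n - 2) * (n - 3) ∨
    24 * d = n * (n - 1) * (n - 2) * (n - 7) ∨ 8 * d = n * (n - 1) * (n - 3) * (n - 6) ∨
    12 * d = n * (n - 1) * (n - 4) * (n - 5) ∨ 8 * d = n * (n - 2) * (n - 3) * (n - 5) ∨
    24 * d = (n - 1) * (n - 2) * (n - 3) * (n - 4) ∨ n * (n - 1) * (n - 2) * (n - 3) * (n - 9) ≤ 120 * d

theorem shallow4 {l : List ℕ} {n d : ℕ} (hn : 9 ≤ n) (hl : IsPart l n) (hd : d * hookProd l = n.factorial)
    (h : n ≤ l.headD 0 + 4 ∨ n ≤ colLen l 0 + 4) : Form n d := by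
  have key : ∀ l : List ℕ, IsPart l n → d * hookProd l = n.factorial → n ≤ l.headD 0 + 4 → Form n d := by
    intro l hl hd h
    unfold Form
    by_cases h1 : n ≤ l.headD 0 + 3
    · have := shallow3 hn hl hd (Or.inl h1)
      tauto
    · have := depth_four (by omega) hl hd (by omega)
      tauto
  rcases h with h | h
  · exact key l hl hd h
  · refine key (transpose l) (isPart_transpose hl) (by rw [hookProd_transpose hl, hd]) ?_
    rw [headD_eq_getD, getD_transpose hl.sorted]
    exact h

theorem f5_le_f6 {n : ℕ} (hn : 21 ≤ n) : 12 * F5 n ≤ F6 n := by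
  obtain ⟨m, rfl⟩ := Nat.exists_eq_add_of_le hn
  unfold F5 F6
  rw [show 21 + m - 1 = m + 20 by omega, show 21 + m - 9 = m + 12 by omega, show 21 + m - 2 = m + 19 by omega,
    show 21 + m - 3 = m + 18 by omega, show 21 + m - 4 = m + 17 by omega, show 21 + m - 11 = m + 10 by omega]
  have h1 : 12 * (m + 12) ≤ (m + 17) * (m + 10) := by nlinarith
  calc 12 * ((21 + m) * (m + 20) * (m + 19) * (m + 18) * (m + 12))
      = (21 + m) * (m + 20) * (m + 19) * (m + 18) * (12 * (m + 12)) := by ring
    _ ≤ (21 + m) * (m + 20) * (m + 19) * (m + 18) * ((m + 17) * (m + 10)) := Nat.mul_le_mul_left _ h1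
    _ = (21 + m) * (m + 20) * (m + 19) * (m + 18) * (m + 17) * (m + 10) := by ring

/-- **The small degrees of `A_n`, depth four.** -/
theorem alt_low5 {n d : ℕ} (hn : 21 ≤ n) (h : AltDeg n d) : Form n d := by
  obtain ⟨l, hl, ⟨-, hd⟩ | ⟨hs, hd⟩⟩ := h
  · by_cases hc : n ≤ l.headD 0 + 4 ∨ n ≤ colLen l 0 + 4
    · exact shallow4 (by omega) hl hd hc
    · have := ld5 (by omega) l d hl.sorted hl.sum hd (by omega) (by omega)
      unfold F5 at this
      unfold Form
      tauto
  · obtain ⟨h1, h2⟩ := self_head hl hs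
    have h3 := ld6 hn l (2 * d) hl.sorted hl.sum hd (by omega) (by omega)
    have h4 := f5_le_f6 hn
    have h5 : F5 n ≤ 120 * d := by omega
    unfold F5 at h5
    unfold Form
    tauto

end Cfsg.Agent.H313.AD
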